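import Groth.Agent.Lib.Depth3.Zero
import Mathlib.RingTheory.Ideal.AssociatedPrime.Localization
import Mathlib.RingTheory.Localization.AtPrime.Basic

/-!
# Denominator ideals and depth one primes
-/

set_option autoImplicit false

universe u

open IsLocalRing Pointwise

namespace Groth.Agent.CDivLib

/-- A local domain in which the maximal ideal is associated to a principal quotient has depth one. -/
theorem depth_eq_one_of_mem_associatedPrimes {L : Type u} [CommRing L] [IsLocalRing L] [IsNoetherianRing L]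
    {b : L} (hb : b ∈ maximalIdeal L) (hreg : IsSMulRegular L b)
    (hass : maximalIdeal L ∈ associatedPrimes L (QuotSMulTop b L)) : LocCoh.depth L L = 1 := by
  have h0 : LocCoh.depth L (QuotSMulTop b L) = 0 := Groth.Agent.Depth3.depth_eq_zero_iff.2 hass
  have h1 := Groth.Agent.DepthLib.idealDepth_quotSMulTop_add_one (I := maximalIdeal L) hb hreg
  unfold LocCoh.depth at h0 ⊢
  rw [← h1, h0, zero_add]

theorem exists_prime_depth_one_of_not_dvd {R : Type u} [CommRing R] [IsDomain R] [IsNoetherianRing R]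
    (p : Ideal R) [p.IsPrime] (a b : R) (hb : b ≠ 0) (h : ∀ s : R, s ∉ p → ¬ b ∣ s * a) :
    ∃ (q : Ideal R) (_ : q.IsPrime), q ≤ p ∧ (∀ s : R, s ∉ q → ¬ b ∣ s * a) ∧
      ∀ (L : Type u) [CommRing L] [IsLocalRing L] [IsNoetherianRing L] [Algebra R L],
        IsLocalization.AtPrime L q → LocCoh.depth L L = 1 := by
  let I : Ideal R := (Ideal.span {b}).colon {a}
  have hI : ∀ {s : R}, s ∈ I ↔ b ∣ s * a := by
    intro s
    simp only [I, Submodule.mem_colon_singleton, smul_eq_mul, Ideal.mem_span_singleton]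
  have hIp : I ≤ p := fun s hs => by_contra fun hsp => h s hsp (hI.1 hs)
  obtain ⟨q, hq, hqp⟩ := Ideal.exists_minimalPrimes_le hIp
  have hqprime : q.IsPrime := hq.1.1
  have hann : Module.annihilator R (R ⧸ I) = I := Ideal.annihilator_quotient
  have hass : q ∈ associatedPrimes R (R ⧸ I) :=
    Module.associatedPrimes.minimalPrimes_annihilator_subset_associatedPrimes R (R ⧸ I) (by rwa [hann])
  obtain ⟨c₀, hc₀⟩ := hass.2
  obtain ⟨c, rfl⟩ := Ideal.Quotient.mk_surjective c₀
  have hqc : ∀ {r : R}, r ∈ q ↔ ∃ k, b ∣ r ^ k * c * a := by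
    intro r
    rw [hc₀, Ideal.mem_radical_iff]
    refine exists_congr fun k => ?_
    rw [Submodule.mem_colon_singleton, Submodule.mem_bot, ← Ideal.Quotient.mk_eq_mk, ← Submodule.Quotient.mk_smul,
      Submodule.Quotient.mk_eq_zero, hI, smul_eq_mul]
  refine ⟨q, hqprime, hqp, fun s hs hdvd => hs (hq.1.2 (hI.2 hdvd)), fun L _ _ _ _ hL => ?_⟩
  have hinj : Function.Injective (algebraMap R L) :=
    IsLocalization.injective (M := q.primeCompl) L q.primeCompl_le_nonZeroDivisors
  have hLdom : IsDomain L := IsLocalization.isDomain_of_le_nonZeroDivisors (S := L) (M := q.primeCompl) q.primeCompl_le_nonZeroDivisors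
  have hbq : b ∈ q := hqc.2 ⟨1, ⟨c * a, by ring⟩⟩
  have hbm : algebraMap R L b ∈ maximalIdeal L := (IsLocalization.AtPrime.to_map_mem_maximal_iff L q b).2 hbq
  have hb0 : algebraMap R L b ≠ 0 := (map_ne_zero_iff _ hinj).2 hb
  refine depth_eq_one_of_mem_associatedPrimes hbm (IsRegular.of_ne_zero hb0).isSMulRegular ?_
  refine ⟨(maximalIdeal.isMaximal L).isPrime, Submodule.Quotient.mk (algebraMap R L (c * a)), ?_⟩
  have hmem : ∀ {w : L}, w ∈ (⊥ : Submodule L (QuotSMulTop (algebraMap R L b) L)).colon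
      {(Submodule.Quotient.mk (algebraMap R L (c * a)) : QuotSMulTop (algebraMap R L b) L)} ↔
      algebraMap R L b ∣ w * algebraMap R L (c * a) := by
    intro w
    rw [Submodule.mem_colon_singleton, Submodule.mem_bot, ← Submodule.Quotient.mk_smul, Submodule.Quotient.mk_eq_zero,
      Submodule.mem_smul_pointwise_iff_exists]
    constructor
    · rintro ⟨y, -, hy⟩
      exact ⟨y, hy.symm⟩
    · rintro ⟨y, hy⟩
      exact ⟨y, trivial, hy.symm⟩
  refine le_antisymm (fun w hw => ?_) (le_maximalIdeal fun htop => ?_)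
  · obtain ⟨r, s, rfl⟩ := IsLocalization.exists_mk'_eq q.primeCompl w
    obtain ⟨k, y, hy⟩ := hqc.1 ((IsLocalization.AtPrime.mk'_mem_maximal_iff L q r s).1 hw)
    refine ⟨k, hmem.2 ?_⟩
    rw [← IsLocalization.mk'_pow]
    refine ⟨IsLocalization.mk' L y (s ^ k), ?_⟩
    rw [mul_comm (IsLocalization.mk' L (r ^ k) (s ^ k)), IsLocalization.mul_mk'_eq_mk'_of_mul, IsLocalization.mul_mk'_eq_mk'_of_mul]
    congr 1
    rw [← hy]; ring
  · rw [Ideal.eq_top_iff_one] at htop
    obtain ⟨k, hk⟩ := htop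
    rw [one_pow, hmem, one_mul] at hk
    obtain ⟨y, hy⟩ := hk
    obtain ⟨r, s, rfl⟩ := IsLocalization.exists_mk'_eq q.primeCompl y
    rw [IsLocalization.mul_mk'_eq_mk'_of_mul, eq_comm, IsLocalization.mk'_eq_iff_eq_mul, ← map_mul, hinj.eq_iff] at hy
    refine s.2 (hqc.2 ⟨1, r, ?_⟩)
    rw [hy]; ring

theorem exists_prime_depth_one_of_not_dvd' {R : Type u} [CommRing R] [IsNoetherianRing R]
    (p : Ideal R) [p.IsPrime] (a b : R)
    (hb : ∀ (q : Ideal R) [q.IsPrime] (L : Type u) [CommRing L] [Algebra R L],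
      IsLocalization.AtPrime L q → IsSMulRegular L (algebraMap R L b)) (h : ∀ s : R, s ∉ p → ¬ b ∣ s * a) :
    ∃ (q : Ideal R) (_ : q.IsPrime), q ≤ p ∧ (∀ s : R, s ∉ q → ¬ b ∣ s * a) ∧
      ∀ (L : Type u) [CommRing L] [IsLocalRing L] [IsNoetherianRing L] [Algebra R L],
        IsLocalization.AtPrime L q → LocCoh.depth L L = 1 := by
  let I : Ideal R := (Ideal.span {b}).colon {a}
  have hI : ∀ {s : R}, s ∈ I ↔ b ∣ s * a := by
    intro s
    simp only [I, Submodule.mem_colon_singleton, smul_eq_mul, Ideal.mem_span_singleton]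
  have hIp : I ≤ p := fun s hs => by_contra fun hsp => h s hsp (hI.1 hs)
  obtain ⟨q, hq, hqp⟩ := Ideal.exists_minimalPrimes_le hIp
  have hqprime : q.IsPrime := hq.1.1
  have hann : Module.annihilator R (R ⧸ I) = I := Ideal.annihilator_quotient
  have hass : q ∈ associatedPrimes R (R ⧸ I) :=
    Module.associatedPrimes.minimalPrimes_annihilator_subset_associatedPrimes R (R ⧸ I) (by rwa [hann])
  obtain ⟨c₀, hc₀⟩ := hass.2
  obtain ⟨c, rfl⟩ := Ideal.Quotient.mk_surjective c₀
  have hqc : ∀ {r : R}, r ∈ q ↔ ∃ k, b ∣ r ^ k * c * a := by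
    intro r
    rw [hc₀, Ideal.mem_radical_iff]
    refine exists_congr fun k => ?_
    rw [Submodule.mem_colon_singleton, Submodule.mem_bot, ← Ideal.Quotient.mk_eq_mk, ← Submodule.Quotient.mk_smul,
      Submodule.Quotient.mk_eq_zero, hI, smul_eq_mul]
  refine ⟨q, hqprime, hqp, fun s hs hdvd => hs (hq.1.2 (hI.2 hdvd)), fun L _ _ _ _ hL => ?_⟩
  have hbq : b ∈ q := hqc.2 ⟨1, ⟨c * a, by ring⟩⟩
  have hbm : algebraMap R L b ∈ maximalIdeal L := (IsLocalization.AtPrime.to_map_mem_maximal_iff L q b).2 hbq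
  refine depth_eq_one_of_mem_associatedPrimes hbm (hb q L hL) ?_
  refine ⟨(maximalIdeal.isMaximal L).isPrime, Submodule.Quotient.mk (algebraMap R L (c * a)), ?_⟩
  have hmem : ∀ {w : L}, w ∈ (⊥ : Submodule L (QuotSMulTop (algebraMap R L b) L)).colon
      {(Submodule.Quotient.mk (algebraMap R L (c * a)) : QuotSMulTop (algebraMap R L b) L)} ↔
      algebraMap R L b ∣ w * algebraMap R L (c * a) := by
    intro w
    rw [Submodule.mem_colon_singleton, Submodule.mem_bot, ← Submodule.Quotient.mk_smul, Submodule.Quotient.mk_eq_zero,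
      Submodule.mem_smul_pointwise_iff_exists]
    constructor
    · rintro ⟨y, -, hy⟩
      exact ⟨y, hy.symm⟩
    · rintro ⟨y, hy⟩
      exact ⟨y, trivial, hy.symm⟩
  refine le_antisymm (fun w hw => ?_) (le_maximalIdeal fun htop => ?_)
  · obtain ⟨r, s, rfl⟩ := IsLocalization.exists_mk'_eq q.primeCompl w
    obtain ⟨k, y, hy⟩ := hqc.1 ((IsLocalization.AtPrime.mk'_mem_maximal_iff L q r s).1 hw)
    refine ⟨k, hmem.2 ?_⟩
    rw [← IsLocalization.mk'_pow]
    refine ⟨IsLocalization.mk' L y (s ^ k), ?_⟩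
    rw [mul_comm (IsLocalization.mk' L (r ^ k) (s ^ k)), IsLocalization.mul_mk'_eq_mk'_of_mul, IsLocalization.mul_mk'_eq_mk'_of_mul]
    congr 1
    rw [← hy]; ring
  · rw [Ideal.eq_top_iff_one] at htop
    obtain ⟨k, hk⟩ := htop
    rw [one_pow, hmem, one_mul] at hk
    obtain ⟨y, hy⟩ := hk
    obtain ⟨r, s, rfl⟩ := IsLocalization.exists_mk'_eq q.primeCompl y
    rw [IsLocalization.mul_mk'_eq_mk'_of_mul, eq_comm, IsLocalization.mk'_eq_iff_eq_mul, ← map_mul] at hy
    obtain ⟨⟨u, hu⟩, hu'⟩ := (IsLocalization.eq_iff_exists q.primeCompl L).1 hy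
    refine mul_mem hu s.2 (hqc.2 ⟨1, u * r, ?_⟩)
    simp only at hu'
    linear_combination -hu'

end Groth.Agent.CDivLib
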