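import Groth.Prelude.Def_CDiv
import Groth.Agent.Lib.CDivLib.Alg
import Mathlib.AlgebraicGeometry.OrderOfVanishing
import Mathlib.AlgebraicGeometry.Noetherian

/-!
# Divisors on integral schemes: germs, depth one points, supports
-/

set_option autoImplicit false

universe u

noncomputable section

open CategoryTheory AlgebraicGeometry TopologicalSpace

namespace Groth.Agent.CDivLib

variable {X : Scheme.{u}} [IsIntegral X]

/-- `f` is regular at `x`. -/
def InStalk (x : X) (f : X.functionField) : Prop :=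
  f ∈ Set.range (algebraMap (X.presheaf.stalk x) X.functionField)

theorem InStalk.exists_open {x : X} {f : X.functionField} (h : InStalk x f) :
    ∃ U : X.Opens, x ∈ U ∧ ∀ y ∈ U, InStalk y f := by
  obtain ⟨a, rfl⟩ := h
  obtain ⟨U, hx, s, rfl⟩ := X.presheaf.exists_germ_eq a
  have : Nonempty U := ⟨⟨x, hx⟩⟩
  refine ⟨U, hx, fun y hy => ⟨X.presheaf.germ U y hy s, ?_⟩⟩
  exact (Scheme.algebraMap_germ_eq_germToFunctionField X hy s).trans
    (Scheme.algebraMap_germ_eq_germToFunctionField X hx s).symm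

theorem InStalk.of_specializes {x z : X} {f : X.functionField} (h : InStalk x f) (hz : z ⤳ x) :
    InStalk z f := by
  obtain ⟨U, hx, hU⟩ := h.exists_open
  exact hU z (hz.mem_open U.isOpen hx)

theorem germOf_eq_iff {x : X} {f g : CDiv.KUnits X} :
    CDiv.germOf X x f = CDiv.germOf X x g ↔
      InStalk x ((f : X.functionField)⁻¹ * g) ∧ InStalk x ((g : X.functionField)⁻¹ * f) := by
  rw [QuotientGroup.eq]
  have hval : ((f⁻¹ * g : CDiv.KUnits X) : X.functionField) = (f : X.functionField)⁻¹ * g := by simp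
  constructor
  · rintro ⟨u, hu⟩
    refine ⟨⟨u, ?_⟩, ⟨(u⁻¹ : (X.presheaf.stalk x)ˣ), ?_⟩⟩
    · rw [← hval, ← hu]; rfl
    · have h2 : Units.map (algebraMap (X.presheaf.stalk x) X.functionField).toMonoidHom u⁻¹ = g⁻¹ * f := by
        rw [map_inv, hu, mul_inv_rev, inv_inv]
      have h3 := congrArg (fun w : CDiv.KUnits X => (w : X.functionField)) h2
      simpa using h3
  · rintro ⟨⟨a, ha⟩, ⟨c, hc⟩⟩
    have hac : a * c = 1 := by
      apply IsFractionRing.injective (X.presheaf.stalk x) X.functionField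
      rw [map_mul, ha, hc, map_one]
      field_simp [f.ne_zero, g.ne_zero]
    refine ⟨⟨a, c, hac, by rw [mul_comm]; exact hac⟩, Units.ext ?_⟩
    rw [hval, ← ha]
    rfl

theorem germOf_eq_one_iff {x : X} {f : CDiv.KUnits X} :
    CDiv.germOf X x f = 1 ↔ InStalk x (f : X.functionField) ∧ InStalk x (f : X.functionField)⁻¹ := by
  rw [show (1 : CDiv.Germ X x) = CDiv.germOf X x 1 from rfl, germOf_eq_iff]
  simp [and_comm]

theorem inStalk_mul {x : X} {f g : X.functionField} (hf : InStalk x f) (hg : InStalk x g) :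
    InStalk x (f * g) := by
  obtain ⟨a, rfl⟩ := hf
  obtain ⟨b, rfl⟩ := hg
  exact ⟨a * b, map_mul _ a b⟩

theorem isEffectiveAt_iff {D : CDiv.Divisor X} {x : X} {f : CDiv.KUnits X}
    (h : D.1 x = CDiv.germOf X x f) : CDiv.IsEffectiveAt D x ↔ InStalk x (f : X.functionField) := by
  constructor
  · rintro ⟨a, ha, hD⟩
    rw [h, germOf_eq_iff] at hD
    have := inStalk_mul hD.2 ⟨a, rfl⟩
    rwa [Units.val_mk0, mul_comm (algebraMap (X.presheaf.stalk x) X.functionField a)⁻¹, mul_assoc,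
      inv_mul_cancel₀ ha, mul_one] at this
  · rintro ⟨a, ha⟩
    refine ⟨a, ha ▸ f.ne_zero, ?_⟩
    rw [h]
    congr 1
    exact Units.ext ha.symm

/-- A local equation of a divisor near a point. -/
theorem exists_rep (D : CDiv.Divisor X) (x : X) :
    ∃ (U : X.Opens) (f : CDiv.KUnits X), x ∈ U ∧ ∀ y ∈ U, D.1 y = CDiv.germOf X y f :=
  D.2 x

theorem isClosed_supp (D : CDiv.Divisor X) : IsClosed (CDiv.supp D) := by
  rw [← isOpen_compl_iff, isOpen_iff_mem_nhds]
  intro x hx
  simp only [CDiv.supp, Set.mem_compl_iff, Set.mem_setOf_eq, not_not] at hx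
  obtain ⟨U, f, hxU, hU⟩ := exists_rep D x
  rw [hU x hxU, germOf_eq_one_iff] at hx
  obtain ⟨V, hxV, hV⟩ := hx.1.exists_open
  obtain ⟨W, hxW, hW⟩ := hx.2.exists_open
  refine Filter.mem_of_superset ((U ⊓ V ⊓ W).isOpen.mem_nhds ⟨⟨hxU, hxV⟩, hxW⟩) fun y hy => ?_
  simp only [CDiv.supp, Set.mem_compl_iff, Set.mem_setOf_eq, not_not]
  rw [hU y hy.1.1, germOf_eq_one_iff]
  exact ⟨hV y hy.1.2, hW y hy.2⟩

variable [IsLocallyNoetherian X]

/-- A rational function not regular at `x` is not regular at a generization with depth one. -/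
theorem exists_depth_one {x : X} {f : X.functionField} (hf : ¬ InStalk x f) :
    ∃ z : X, z ⤳ x ∧ LocCoh.depth (X.presheaf.stalk z) (X.presheaf.stalk z) = 1 ∧ ¬ InStalk z f := by
  obtain ⟨_, ⟨U, hU, rfl⟩, hxU, -⟩ :=
    X.isBasis_affineOpens.exists_subset_of_mem_open (Set.mem_univ x) isOpen_univ
  have : Nonempty U := ⟨⟨x, hxU⟩⟩
  have : IsNoetherianRing Γ(X, U) := IsLocallyNoetherian.component_noetherian ⟨U, hU⟩
  have := functionField_isFractionRing_of_isAffineOpen X U hU
  obtain ⟨a, b, hb, rfl⟩ := IsFractionRing.div_surjective Γ(X, U) f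
  have hb' : algebraMap Γ(X, U) X.functionField b ≠ 0 :=
    (map_ne_zero_iff _ (IsFractionRing.injective Γ(X, U) X.functionField)).2 (nonZeroDivisors.ne_zero hb)
  have key : ∀ (z : X) (hz : z ∈ U) (q : Ideal Γ(X, U)) (_ : q.IsPrime)
      (_ : @IsLocalization.AtPrime _ _ (X.presheaf.stalk z) _ (TopCat.Presheaf.algebra_section_stalk X.presheaf ⟨z, hz⟩) q _),
      (InStalk z (algebraMap Γ(X, U) X.functionField a / algebraMap Γ(X, U) X.functionField b) ↔
        ∃ s : Γ(X, U), s ∉ q ∧ b ∣ s * a) := by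
    intro z hz q hq hloc
    let := TopCat.Presheaf.algebra_section_stalk X.presheaf ⟨z, hz⟩
    have : IsScalarTower Γ(X, U) (X.presheaf.stalk z) X.functionField := functionField_isScalarTower X U ⟨z, hz⟩
    constructor
    · rintro ⟨w, hw⟩
      obtain ⟨r, s, rfl⟩ := IsLocalization.exists_mk'_eq q.primeCompl w
      refine ⟨s, s.2, r, IsFractionRing.injective Γ(X, U) X.functionField ?_⟩
      rw [eq_div_iff hb'] at hw
      have h2 := congrArg (algebraMap (X.presheaf.stalk z) X.functionField) (IsLocalization.mk'_spec (X.presheaf.stalk z) r s)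
      rw [map_mul, ← IsScalarTower.algebraMap_apply, ← IsScalarTower.algebraMap_apply] at h2
      rw [map_mul, map_mul, ← hw, ← h2]
      ring
    · rintro ⟨s, hs, r, hr⟩
      refine ⟨IsLocalization.mk' (X.presheaf.stalk z) r (⟨s, hs⟩ : q.primeCompl), ?_⟩
      have h2 := congrArg (algebraMap (X.presheaf.stalk z) X.functionField)
        (IsLocalization.mk'_spec (X.presheaf.stalk z) r (⟨s, hs⟩ : q.primeCompl))
      rw [map_mul, ← IsScalarTower.algebraMap_apply, ← IsScalarTower.algebraMap_apply] at h2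
      have hs0 : algebraMap Γ(X, U) X.functionField s ≠ 0 :=
        (map_ne_zero_iff _ (IsFractionRing.injective Γ(X, U) X.functionField)).2 fun h0 => hs (h0 ▸ q.zero_mem)
      rw [eq_div_iff hb']
      apply mul_right_cancel₀ hs0
      rw [mul_comm _ (algebraMap Γ(X, U) X.functionField s), mul_comm _ (algebraMap Γ(X, U) X.functionField s),
        ← map_mul _ s a, hr, map_mul, ← h2]
      ring
  set p := hU.primeIdealOf ⟨x, hxU⟩ with hp
  have hp' : ∀ s : Γ(X, U), s ∉ p.asIdeal → ¬ b ∣ s * a := fun s hs hdvd =>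
    hf ((key x hxU p.asIdeal p.isPrime (hU.isLocalization_stalk ⟨x, hxU⟩)).2 ⟨s, hs, hdvd⟩)
  obtain ⟨q, hq, hqp, hnd, hdepth⟩ :=
    exists_prime_depth_one_of_not_dvd p.asIdeal a b (nonZeroDivisors.ne_zero hb) hp'
  let y : PrimeSpectrum Γ(X, U) := ⟨q, hq⟩
  let z : X := hU.fromSpec y
  have hz : z ∈ U := by
    have : z ∈ Set.range hU.fromSpec := ⟨y, rfl⟩
    rwa [hU.range_fromSpec] at this
  have hzx : z ⤳ x := by
    have := ((PrimeSpectrum.le_iff_specializes y p).1 hqp).map hU.fromSpec.continuous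
    have e : hU.fromSpec p = x := hU.fromSpec_primeIdealOf ⟨x, hxU⟩
    exact e ▸ this
  let := TopCat.Presheaf.algebra_section_stalk X.presheaf ⟨z, hz⟩
  refine ⟨z, hzx, hdepth (X.presheaf.stalk z) (hU.isLocalization_stalk' y hz), fun h => ?_⟩
  obtain ⟨s, hs, hdvd⟩ := (key z hz q hq (hU.isLocalization_stalk' y hz)).1 h
  exact hnd s hs hdvd

theorem isEffective_of_depth_one (D : CDiv.Divisor X)
    (h : ∀ x : X, LocCoh.depth (X.presheaf.stalk x) (X.presheaf.stalk x) = 1 → CDiv.IsEffectiveAt D x) :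
    CDiv.IsEffective D := by
  intro x
  obtain ⟨U, f, hxU, hU⟩ := exists_rep D x
  rw [isEffectiveAt_iff (hU x hxU)]
  by_contra hne
  obtain ⟨z, hzx, hd, hz⟩ := exists_depth_one hne
  exact hz ((isEffectiveAt_iff (hU z (hzx.mem_open U.isOpen hxU))).1 (h z hd))

theorem eq_one_of_depth_one (D : CDiv.Divisor X)
    (h : ∀ x : X, LocCoh.depth (X.presheaf.stalk x) (X.presheaf.stalk x) = 1 → D.1 x = 1) :
    D = 1 := by
  refine Subtype.ext (funext fun x => ?_)
  obtain ⟨U, f, hxU, hU⟩ := exists_rep D x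
  change D.1 x = 1
  rw [hU x hxU, germOf_eq_one_iff]
  constructor <;> by_contra hne <;> obtain ⟨z, hzx, hd, hz⟩ := exists_depth_one hne <;>
    have h1 := h z hd <;> rw [hU z (hzx.mem_open U.isOpen hxU), germOf_eq_one_iff] at h1
  · exact hz h1.1
  · exact hz h1.2

theorem depth_eq_one_of_maximal (D : CDiv.Divisor X) (x : X) (hx : x ∈ CDiv.supp D)
    (hmax : ∀ z : X, z ∈ CDiv.supp D → z ⤳ x → z = x) :
    LocCoh.depth (X.presheaf.stalk x) (X.presheaf.stalk x) = 1 := by
  obtain ⟨U, f, hxU, hU⟩ := exists_rep D x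
  change D.1 x ≠ 1 at hx
  rw [hU x hxU, ne_eq, germOf_eq_one_iff, not_and_or] at hx
  rcases hx with hne | hne <;> obtain ⟨z, hzx, hd, hz⟩ := exists_depth_one hne <;>
    (have hzs : z ∈ CDiv.supp D := by
      change D.1 z ≠ 1
      rw [hU z (hzx.mem_open U.isOpen hxU), ne_eq, germOf_eq_one_iff, not_and_or]
      tauto) <;> exact hmax z hzs hzx ▸ hd

end Groth.Agent.CDivLib
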