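import Groth.Prelude.Def_MeroDiv
import Groth.Agent.Lib.CDivLib.Alg
import Mathlib.AlgebraicGeometry.Noetherian

/-!
# Divisors on locally Noetherian schemes and depth one points
-/

set_option autoImplicit false

universe u

noncomputable section

open CategoryTheory AlgebraicGeometry TopologicalSpace Opposite

namespace Groth.Agent.CDivLib

variable {X : Scheme.{u}}

/-- A local equation `a / b` of a divisor on an affine open. -/
structure Eqn (D : Mero.Divisor X) where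
  W : X.Opens
  affine : IsAffineOpen W
  a : Γ(X, W)
  b : Γ(X, W)
  ha : a ∈ Mero.regSub X W
  hb : b ∈ Mero.regSub X W
  u : ∀ y : W, (Mero.KStalk X y.1)ˣ
  hu : ∀ y : W, (u y : Mero.KStalk X y.1) *
    algebraMap (X.presheaf.stalk y.1) (Mero.KStalk X y.1) (X.presheaf.germ W y.1 y.2 b) =
    algebraMap (X.presheaf.stalk y.1) (Mero.KStalk X y.1) (X.presheaf.germ W y.1 y.2 a)
  hD : ∀ y : W, D.1 y.1 = QuotientGroup.mk (u y)

theorem exists_eqn (D : Mero.Divisor X) (x : X) : ∃ E : Eqn D, x ∈ E.W := by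
  obtain ⟨U, hxU, f, hU⟩ := D.2 x
  obtain ⟨V, hxV, i, a, b, hab⟩ := (f : Γ(Mero.kmod X, U)).2 ⟨x, hxU⟩
  obtain ⟨_, ⟨W, hW, rfl⟩, hxW, hWV⟩ := X.isBasis_affineOpens.exists_subset_of_mem_open hxV V.isOpen
  have hle : W ≤ V := hWV
  let uu : ∀ y : W, (Mero.KStalk X y.1)ˣ := fun y =>
    Units.map (Mero.evalK X U ⟨y.1, i.le (hle y.2)⟩).toMonoidHom f
  have hu : ∀ y : W, (uu y : Mero.KStalk X y.1) *
      algebraMap (X.presheaf.stalk y.1) (Mero.KStalk X y.1)
        (X.presheaf.germ W y.1 y.2 (X.presheaf.map (homOfLE hle).op b.1)) =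
      algebraMap (X.presheaf.stalk y.1) (Mero.KStalk X y.1)
        (X.presheaf.germ W y.1 y.2 (X.presheaf.map (homOfLE hle).op a)) := by
    intro y
    have h1 : (uu y : Mero.KStalk X y.1) =
        LocalizedModule.mk (X.presheaf.germ V y.1 (hle y.2) a) (Mero.regGerm ⟨y.1, hle y.2⟩ b) := hab ⟨y.1, hle y.2⟩
    rw [TopCat.Presheaf.germ_res_apply, TopCat.Presheaf.germ_res_apply, h1]
    change (LocalizedModule.mk _ _ : Mero.KStalk X y.1) * LocalizedModule.mk (X.presheaf.germ V y.1 (hle y.2) b.1) 1 =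
      LocalizedModule.mk (X.presheaf.germ V y.1 (hle y.2) a) 1
    refine LocalizedModule.mk_mul_mk.trans (LocalizedModule.mk_eq.2 ⟨1, ?_⟩)
    simp [Submonoid.smul_def, mul_comm]
  refine ⟨⟨W, hW, X.presheaf.map (homOfLE hle).op a, X.presheaf.map (homOfLE hle).op b.1, ?_,
    Mero.regSub_res (homOfLE hle) b.2, uu, hu, fun y => hU ⟨y.1, i.le (hle y.2)⟩⟩, hxW⟩
  intro y
  rw [mem_nonZeroDivisors_iff_right]
  intro r hr
  apply Mero.algebraMap_KStalk_injective y.1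
  have hbu : IsUnit (algebraMap (X.presheaf.stalk y.1) (Mero.KStalk X y.1)
      (X.presheaf.germ W y.1 y.2 (X.presheaf.map (homOfLE hle).op b.1))) :=
    IsLocalization.map_units (Mero.KStalk X y.1)
      (⟨_, Mero.germ_mem_regStalk y (Mero.regSub_res (homOfLE hle) b.2)⟩ : Mero.regStalk X y.1)
  have h3 := congrArg (algebraMap (X.presheaf.stalk y.1) (Mero.KStalk X y.1)) hr
  rw [map_mul, map_zero, ← hu y] at h3
  rw [map_zero]
  exact ((Units.isUnit (uu y)).mul hbu).mul_left_eq_zero.1 h3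

variable {D : Mero.Divisor X} (E : Eqn D)

theorem Eqn.range_iff (y : E.W) :
    (E.u y : Mero.KStalk X y.1) ∈ Set.range (algebraMap (X.presheaf.stalk y.1) (Mero.KStalk X y.1)) ↔
      X.presheaf.germ E.W y.1 y.2 E.b ∣ X.presheaf.germ E.W y.1 y.2 E.a := by
  constructor
  · rintro ⟨w, hw⟩
    refine ⟨w, Mero.algebraMap_KStalk_injective y.1 ?_⟩
    rw [← E.hu y, map_mul, hw, mul_comm]
  · rintro ⟨w, hw⟩
    refine ⟨w, (IsLocalization.map_units (Mero.KStalk X y.1)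
      (⟨_, Mero.germ_mem_regStalk y E.hb⟩ : Mero.regStalk X y.1)).mul_right_cancel ?_⟩
    rw [E.hu y, hw, map_mul, mul_comm]

theorem Eqn.range_inv_iff (y : E.W) :
    (((E.u y)⁻¹ : (Mero.KStalk X y.1)ˣ) : Mero.KStalk X y.1) ∈
        Set.range (algebraMap (X.presheaf.stalk y.1) (Mero.KStalk X y.1)) ↔
      X.presheaf.germ E.W y.1 y.2 E.a ∣ X.presheaf.germ E.W y.1 y.2 E.b := by
  constructor
  · rintro ⟨w, hw⟩
    refine ⟨w, Mero.algebraMap_KStalk_injective y.1 ?_⟩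
    rw [map_mul, hw, ← E.hu y, mul_comm (E.u y : Mero.KStalk X y.1), mul_assoc, Units.mul_inv, mul_one]
  · rintro ⟨w, hw⟩
    refine ⟨w, (IsLocalization.map_units (Mero.KStalk X y.1)
      (⟨_, Mero.germ_mem_regStalk y E.ha⟩ : Mero.regStalk X y.1)).mul_right_cancel ?_⟩
    rw [← map_mul, mul_comm w, ← hw, ← E.hu y, ← mul_assoc, Units.inv_mul, one_mul]

theorem Eqn.eq_one_iff (y : E.W) :
    D.1 y.1 = 1 ↔ X.presheaf.germ E.W y.1 y.2 E.b ∣ X.presheaf.germ E.W y.1 y.2 E.a ∧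
      X.presheaf.germ E.W y.1 y.2 E.a ∣ X.presheaf.germ E.W y.1 y.2 E.b := by
  rw [E.hD y, QuotientGroup.eq_one_iff, ← E.range_iff y, ← E.range_inv_iff y]
  constructor
  · rintro ⟨w, hw⟩
    rw [← hw]
    exact ⟨⟨w, rfl⟩, ⟨(w⁻¹ : (X.presheaf.stalk y.1)ˣ), rfl⟩⟩
  · rintro ⟨⟨w, hw⟩, ⟨w', hw'⟩⟩
    have h : w * w' = 1 := by
      apply Mero.algebraMap_KStalk_injective y.1
      rw [map_mul, hw, hw', map_one, Units.mul_inv]
    exact ⟨⟨w, w', h, by rw [mul_comm]; exact h⟩, Units.ext hw⟩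

theorem Eqn.effective_iff (y : E.W) :
    Mero.IsEffectiveAt D y.1 ↔ X.presheaf.germ E.W y.1 y.2 E.b ∣ X.presheaf.germ E.W y.1 y.2 E.a := by
  rw [← E.range_iff y]
  constructor
  · rintro ⟨c, hc⟩
    rw [E.hD y, QuotientGroup.eq] at hc
    obtain ⟨w, hw⟩ := hc
    refine ⟨(w⁻¹ : (X.presheaf.stalk y.1)ˣ) * (c : X.presheaf.stalk y.1), ?_⟩
    have h1 : (IsLocalization.map_units (Mero.KStalk X y.1) c).unit = E.u y * Units.map
        (algebraMap (X.presheaf.stalk y.1) (Mero.KStalk X y.1)).toMonoidHom w := by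
      rw [hw, ← mul_assoc, mul_inv_cancel, one_mul]
    have h2 := congrArg (fun v : (Mero.KStalk X y.1)ˣ => (v : Mero.KStalk X y.1)) h1
    simp only [IsUnit.unit_spec, Units.val_mul] at h2
    rw [map_mul, h2, mul_comm, mul_assoc]
    change _ * (algebraMap _ _ (w : X.presheaf.stalk y.1) * algebraMap _ _ _) = _
    rw [← map_mul, Units.mul_inv, map_one, mul_one]
  · rintro ⟨w, hw⟩
    obtain ⟨W', hyW', s, hs⟩ := X.presheaf.exists_germ_eq w
    subst hs
    have hdvd : X.presheaf.germ E.W y.1 y.2 E.a =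
        X.presheaf.germ W' y.1 hyW' s * X.presheaf.germ E.W y.1 y.2 E.b :=
      Mero.algebraMap_KStalk_injective y.1 (by rw [map_mul, hw, E.hu y])
    have hprod : X.presheaf.germ (W' ⊓ E.W) y.1 ⟨hyW', y.2⟩
        (X.presheaf.map (homOfLE inf_le_left).op s * X.presheaf.map (homOfLE inf_le_right).op E.b) =
        X.presheaf.germ E.W y.1 y.2 E.a := by
      rw [map_mul, TopCat.Presheaf.germ_res_apply, TopCat.Presheaf.germ_res_apply]
      exact hdvd.symm
    obtain ⟨V, hyV, i₁, i₂, heq⟩ := X.presheaf.germ_eq y.1 (show y.1 ∈ W' ⊓ E.W from ⟨hyW', y.2⟩) y.2 _ _ hprod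
    have hVW' : V ≤ W' := i₁.le.trans inf_le_left
    have hmem : ∀ (_ : X.presheaf.map (homOfLE hVW').op s ∈ Mero.regSub X V),
        X.presheaf.germ W' y.1 hyW' s ∈ Mero.regStalk X y.1 := fun hh =>
      ⟨V, hyV, _, hh, TopCat.Presheaf.germ_res_apply X.presheaf (homOfLE hVW') y.1 hyV s⟩
    refine ⟨⟨X.presheaf.germ W' y.1 hyW' s, hmem ?_⟩, ?_⟩
    · intro z
      have h := E.ha ⟨z.1, i₂.le z.2⟩
      have h2 := congrArg (X.presheaf.germ V z.1 z.2) heq
      rw [TopCat.Presheaf.germ_res_apply, TopCat.Presheaf.germ_res_apply, map_mul,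
        TopCat.Presheaf.germ_res_apply, TopCat.Presheaf.germ_res_apply] at h2
      rw [← h2] at h
      rw [TopCat.Presheaf.germ_res_apply]
      exact (mul_mem_nonZeroDivisors.1 h).1
    · rw [E.hD y]
      refine congrArg _ (Units.ext ?_)
      rw [IsUnit.unit_spec]
      exact hw.symm

variable [IsLocallyNoetherian X]

theorem exists_depth_one_of_not_dvd {W : X.Opens} (hW : IsAffineOpen W) (a b : Γ(X, W))
    (hb : b ∈ Mero.regSub X W) (x : W)
    (h : ¬ X.presheaf.germ W x.1 x.2 b ∣ X.presheaf.germ W x.1 x.2 a) :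
    ∃ z : W, z.1 ⤳ x.1 ∧ LocCoh.depth (X.presheaf.stalk z.1) (X.presheaf.stalk z.1) = 1 ∧
      ¬ X.presheaf.germ W z.1 z.2 b ∣ X.presheaf.germ W z.1 z.2 a := by
  have : IsNoetherianRing Γ(X, W) := IsLocallyNoetherian.component_noetherian ⟨W, hW⟩
  let p := hW.primeIdealOf x
  have key : ∀ (z : W) (q : Ideal Γ(X, W)) (_ : q.IsPrime)
      (_ : @IsLocalization.AtPrime _ _ (X.presheaf.stalk z.1) _ (TopCat.Presheaf.algebra_section_stalk X.presheaf z) q _),
      (X.presheaf.germ W z.1 z.2 b ∣ X.presheaf.germ W z.1 z.2 a ↔ ∃ s : Γ(X, W), s ∉ q ∧ b ∣ s * a) := by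
    intro z q hq hloc
    let := TopCat.Presheaf.algebra_section_stalk X.presheaf z
    change algebraMap Γ(X, W) (X.presheaf.stalk z.1) b ∣ algebraMap Γ(X, W) (X.presheaf.stalk z.1) a ↔ _
    constructor
    · rintro ⟨w, hw⟩
      obtain ⟨r, s, rfl⟩ := IsLocalization.exists_mk'_eq q.primeCompl w
      rw [IsLocalization.mul_mk'_eq_mk'_of_mul, eq_comm, IsLocalization.mk'_eq_iff_eq_mul, ← map_mul] at hw
      obtain ⟨⟨t, ht⟩, ht'⟩ := (IsLocalization.eq_iff_exists q.primeCompl (X.presheaf.stalk z.1)).1 hw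
      refine ⟨t * s, mul_mem (s := q.primeCompl) ht s.2, t * r, ?_⟩
      simp only at ht'
      linear_combination -ht'
    · rintro ⟨s, hs, r, hr⟩
      refine ⟨IsLocalization.mk' (X.presheaf.stalk z.1) r (⟨s, hs⟩ : q.primeCompl), ?_⟩
      rw [IsLocalization.mul_mk'_eq_mk'_of_mul, eq_comm, IsLocalization.mk'_eq_iff_eq_mul, ← map_mul, ← hr, mul_comm]
  have hp' : ∀ s : Γ(X, W), s ∉ p.asIdeal → ¬ b ∣ s * a := fun s hs hdvd =>
    h ((key x p.asIdeal p.isPrime (hW.isLocalization_stalk x)).2 ⟨s, hs, hdvd⟩)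
  have hreg : ∀ (q : Ideal Γ(X, W)) [q.IsPrime] (L : Type u) [CommRing L] [Algebra Γ(X, W) L],
      IsLocalization.AtPrime L q → IsSMulRegular L (algebraMap Γ(X, W) L b) := by
    intro q hq L _ _ hL
    let y : PrimeSpectrum Γ(X, W) := ⟨q, hq⟩
    have hz : hW.fromSpec y ∈ W := by
      have : hW.fromSpec y ∈ Set.range hW.fromSpec := ⟨y, rfl⟩
      rwa [hW.range_fromSpec] at this
    let := TopCat.Presheaf.algebra_section_stalk X.presheaf ⟨_, hz⟩
    have : IsLocalization q.primeCompl (X.presheaf.stalk (hW.fromSpec y)) := hW.isLocalization_stalk' y hz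
    let e : X.presheaf.stalk (hW.fromSpec y) ≃ₐ[Γ(X, W)] L := IsLocalization.algEquiv q.primeCompl _ _
    intro r₁ r₂ h12
    have h3 := congrArg e.symm (show algebraMap Γ(X, W) L b * r₁ = algebraMap Γ(X, W) L b * r₂ from h12)
    rw [map_mul, map_mul, AlgEquiv.commutes] at h3
    exact e.symm.injective ((mul_cancel_left_mem_nonZeroDivisors (hb ⟨_, hz⟩)).1 h3)
  obtain ⟨q, hq, hqp, hnd, hdepth⟩ := exists_prime_depth_one_of_not_dvd' p.asIdeal a b hreg hp'
  let y : PrimeSpectrum Γ(X, W) := ⟨q, hq⟩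
  have hz : hW.fromSpec y ∈ W := by
    have : hW.fromSpec y ∈ Set.range hW.fromSpec := ⟨y, rfl⟩
    rwa [hW.range_fromSpec] at this
  have hzx : hW.fromSpec y ⤳ x.1 := by
    have := ((PrimeSpectrum.le_iff_specializes y p).1 hqp).map hW.fromSpec.continuous
    have e : hW.fromSpec p = x.1 := hW.fromSpec_primeIdealOf x
    exact e ▸ this
  let := TopCat.Presheaf.algebra_section_stalk X.presheaf ⟨_, hz⟩
  refine ⟨⟨_, hz⟩, hzx, hdepth (X.presheaf.stalk (hW.fromSpec y)) (hW.isLocalization_stalk' y hz), fun h => ?_⟩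
  obtain ⟨s, hs, hdvd⟩ := (key ⟨_, hz⟩ q hq (hW.isLocalization_stalk' y hz)).1 h
  exact hnd s hs hdvd

theorem mero_isEffective_of_depth_one (D : Mero.Divisor X)
    (h : ∀ x : X, LocCoh.depth (X.presheaf.stalk x) (X.presheaf.stalk x) = 1 → Mero.IsEffectiveAt D x) :
    Mero.IsEffective D := by
  intro x
  obtain ⟨E, hx⟩ := exists_eqn D x
  rw [E.effective_iff ⟨x, hx⟩]
  by_contra hne
  obtain ⟨z, -, hd, hz⟩ := exists_depth_one_of_not_dvd E.affine E.a E.b E.hb ⟨x, hx⟩ hne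
  exact hz ((E.effective_iff z).1 (h z.1 hd))

theorem mero_eq_one_of_depth_one (D : Mero.Divisor X)
    (h : ∀ x : X, LocCoh.depth (X.presheaf.stalk x) (X.presheaf.stalk x) = 1 → D.1 x = 1) :
    D = 1 := by
  refine Subtype.ext (funext fun x => ?_)
  obtain ⟨E, hx⟩ := exists_eqn D x
  change D.1 x = 1
  rw [E.eq_one_iff ⟨x, hx⟩]
  constructor <;> by_contra hne
  · obtain ⟨z, -, hd, hz⟩ := exists_depth_one_of_not_dvd E.affine E.a E.b E.hb ⟨x, hx⟩ hne
    exact hz ((E.eq_one_iff z).1 (h z.1 hd)).1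
  · obtain ⟨z, -, hd, hz⟩ := exists_depth_one_of_not_dvd E.affine E.b E.a E.ha ⟨x, hx⟩ hne
    exact hz ((E.eq_one_iff z).1 (h z.1 hd)).2

theorem mero_depth_eq_one_of_maximal (D : Mero.Divisor X) (x : X) (hx : x ∈ Mero.supp D)
    (hmax : ∀ z : X, z ∈ Mero.supp D → z ⤳ x → z = x) :
    LocCoh.depth (X.presheaf.stalk x) (X.presheaf.stalk x) = 1 := by
  obtain ⟨E, hxE⟩ := exists_eqn D x
  change D.1 x ≠ 1 at hx
  rw [ne_eq, E.eq_one_iff ⟨x, hxE⟩, not_and_or] at hx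
  rcases hx with hne | hne
  · obtain ⟨z, hzx, hd, hz⟩ := exists_depth_one_of_not_dvd E.affine E.a E.b E.hb ⟨x, hxE⟩ hne
    exact hmax z.1 (fun h => hz ((E.eq_one_iff z).1 h).1) hzx ▸ hd
  · obtain ⟨z, hzx, hd, hz⟩ := exists_depth_one_of_not_dvd E.affine E.b E.a E.ha ⟨x, hxE⟩ hne
    exact hmax z.1 (fun h => hz ((E.eq_one_iff z).1 h).2) hzx ▸ hd

end Groth.Agent.CDivLib
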