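import Groth.Agent.Lib.CDivLib.Basic
import Mathlib.RingTheory.DiscreteValuationRing.TFAE
import Mathlib.RingTheory.IntegralClosure.IsIntegralClosure.Basic

/-!
# Depth one points of normal schemes
-/

set_option autoImplicit false

universe u

noncomputable section

open CategoryTheory AlgebraicGeometry IsLocalRing

namespace Groth.Agent.CDivLib

theorem isDiscreteValuationRing_of_depth_one (L : Type u) [CommRing L] [IsDomain L] [IsLocalRing L]
    [IsNoetherianRing L] [IsIntegrallyClosed L] (hd : LocCoh.depth L L = 1) : IsDiscreteValuationRing L := by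
  classical
  have hm : maximalIdeal L ≠ ⊥ := fun h => by
    have h0 : LocCoh.depth L L = 0 := Groth.Agent.Depth3.depth_eq_zero_iff.2
      ⟨(maximalIdeal.isMaximal L).isPrime, 1, by
        ext r; simp [h, Ideal.mem_radical_iff, Submodule.mem_colon_singleton]; intro hr; exact ⟨1, by simp [hr]⟩⟩
    rw [h0] at hd; exact zero_ne_one hd
  obtain ⟨b, hbm, hb⟩ := Submodule.exists_mem_ne_zero_of_ne_bot hm
  have h1 := Groth.Agent.DepthLib.idealDepth_quotSMulTop_add_one (M := L) hbm (IsRegular.of_ne_zero hb).isSMulRegular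
  have h0 : LocCoh.depth L (QuotSMulTop b L) = 0 := by
    unfold LocCoh.depth at hd ⊢
    rw [hd] at h1
    exact ENat.add_left_injective_of_ne_top ENat.one_ne_top (h1.trans (zero_add 1).symm)
  obtain ⟨hprime, x, hx⟩ := Groth.Agent.Depth3.depth_eq_zero_iff.1 h0
  obtain ⟨c, rfl⟩ := Submodule.Quotient.mk_surjective _ x
  obtain ⟨n, hn⟩ := Ideal.exists_pow_le_of_le_radical_of_fg hx.le (IsNoetherian.noetherian _)
  have hcol : ∀ {w : L}, w ∈ (⊥ : Submodule L (QuotSMulTop b L)).colon {(Submodule.Quotient.mk c : QuotSMulTop b L)} ↔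
      b ∣ w * c := by
    intro w
    rw [Submodule.mem_colon_singleton, Submodule.mem_bot, ← Submodule.Quotient.mk_smul, Submodule.Quotient.mk_eq_zero,
      Submodule.mem_smul_pointwise_iff_exists]
    exact ⟨fun ⟨y, _, hy⟩ => ⟨y, hy.symm⟩, fun ⟨y, hy⟩ => ⟨y, trivial, hy.symm⟩⟩
  have hex : ∃ k : ℕ, ∀ w ∈ maximalIdeal L ^ k, b ∣ w * c := ⟨n, fun w hw => hcol.1 (hn hw)⟩
  have hk0 : Nat.find hex ≠ 0 := fun h => hprime.ne_top (by
    rw [hx, Ideal.radical_eq_top, Ideal.eq_top_iff_one, hcol]
    exact Nat.find_spec hex 1 (by rw [h, pow_zero, Ideal.one_eq_top]; trivial))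
  obtain ⟨v, hv, hvb⟩ : ∃ v ∈ maximalIdeal L ^ (Nat.find hex - 1), ¬ b ∣ v * c := by
    have := Nat.find_min hex (Nat.sub_lt (Nat.pos_of_ne_zero hk0) one_pos)
    push Not at this
    exact this
  have hvm : ∀ z ∈ maximalIdeal L, b ∣ z * (v * c) := fun z hz => by
    rw [← mul_assoc]
    refine Nat.find_spec hex _ ?_
    rw [← Nat.sub_add_cancel (Nat.one_le_iff_ne_zero.2 hk0), pow_succ']
    exact Ideal.mul_mem_mul hz hv
  have hnf : ¬ IsField L := fun h => hm (isField_iff_maximalIdeal_eq.1 h)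
  by_cases hJ : ∃ z ∈ maximalIdeal L, ∃ e : L, IsUnit e ∧ z * (v * c) = b * e
  · obtain ⟨z, hz, e, he, hze⟩ := hJ
    have hpr : (maximalIdeal L).IsPrincipal := ⟨⟨z, le_antisymm (fun w hw => ?_) ?_⟩⟩
    · exact ((IsDiscreteValuationRing.TFAE L hnf).out 0 4).2 hpr
    · obtain ⟨y, hy⟩ := hvm w hw
      rw [Submodule.mem_span_singleton]
      refine ⟨y * he.unit⁻¹.1, ?_⟩
      have hvc : v * c ≠ 0 := fun h0 => hvb (h0 ▸ dvd_zero b)
      apply mul_right_cancel₀ hvc
      rw [smul_eq_mul]
      calc y * he.unit⁻¹.1 * z * (v * c) = y * he.unit⁻¹.1 * (b * e) := by rw [mul_assoc, hze]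
        _ = b * y * (he.unit⁻¹.1 * e) := by ring
        _ = w * (v * c) := by rw [IsUnit.val_inv_mul, mul_one, hy]
    · exact (Submodule.span_singleton_le_iff_mem _ _).2 hz
  · exfalso
    push Not at hJ
    let t : (FractionRing L) := algebraMap L (FractionRing L) (v * c) / algebraMap L (FractionRing L) b
    have hbK : algebraMap L (FractionRing L) b ≠ 0 := (map_ne_zero_iff _ (IsFractionRing.injective L (FractionRing L))).2 hb
    let N : Submodule L (FractionRing L) := Submodule.map (Algebra.linearMap L (FractionRing L)) (maximalIdeal L)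
    have hint : IsIntegral L t := by
      refine isIntegral_of_smul_mem_submodule N ?_ ((IsNoetherian.noetherian _).map _) t ?_
      · intro h
        exact hbK ((Submodule.eq_bot_iff N).1 h _ ⟨b, hbm, rfl⟩)
      · rintro _ ⟨z, hz, rfl⟩
        obtain ⟨y, hy⟩ := hvm z hz
        refine ⟨y, by_contra fun hy' => hJ z hz y (notMem_maximalIdeal.1 hy') hy, ?_⟩
        simp only [Algebra.linearMap_apply, smul_eq_mul, t]
        field_simp
        rw [← map_mul, ← map_mul]
        exact congrArg _ (by linear_combination -hy)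
    obtain ⟨l, hl⟩ := IsIntegrallyClosed.isIntegral_iff.1 hint
    refine hvb ⟨l, IsFractionRing.injective L (FractionRing L) ?_⟩
    rw [map_mul _ b, hl]
    simp only [t]
    field_simp

variable {X : Scheme.{u}} [IsIntegral X] [IsLocallyNoetherian X]

theorem one_le_ordHom_of_inStalk {x : X} (hx : Order.coheight x = 1) {f : X.functionField} (hf : f ≠ 0)
    (h : InStalk x f) : 0 ≤ Scheme.ord f x := by
  have : Ring.KrullDimLE 1 (X.presheaf.stalk x) := krullDimLE_of_coheight_le hx.le
  obtain ⟨a, rfl⟩ := h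
  rw [Scheme.le_ord_iff hx hf]
  exact Ring.ordFrac_ge_one_of_ne_zero (fun h => hf (by rw [h, map_zero]))

theorem coheight_eq_one_of_dvr {x : X} [IsDiscreteValuationRing (X.presheaf.stalk x)] : Order.coheight x = 1 := by
  have h := ringKrullDim_stalk_eq_coheight x
  rw [IsPrincipalIdealRing.ringKrullDim_eq_one _ (IsDiscreteValuationRing.not_isField _)] at h
  exact_mod_cast h.symm

theorem inStalk_of_ord_nonneg {x : X} [IsDiscreteValuationRing (X.presheaf.stalk x)] {f : X.functionField}
    (hf : f ≠ 0) (h : 0 ≤ Scheme.ord f x) : InStalk x f := by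
  have hx := coheight_eq_one_of_dvr (x := x)
  have : Ring.KrullDimLE 1 (X.presheaf.stalk x) := krullDimLE_of_coheight_le hx.le
  rcases ValuationRing.isInteger_or_isInteger (X.presheaf.stalk x) f with hi | ⟨a, ha⟩
  · exact hi
  · by_cases hu : IsUnit a
    · refine ⟨hu.unit⁻¹.1, ?_⟩
      have h1 : algebraMap (X.presheaf.stalk x) X.functionField hu.unit⁻¹.1 *
          algebraMap (X.presheaf.stalk x) X.functionField a = 1 := by
        rw [← map_mul, IsUnit.val_inv_mul, map_one]
      rw [ha] at h1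
      field_simp at h1
      exact h1
    · exfalso
      have h1 := Scheme.ord_mul (x := x) hf (inv_ne_zero hf)
      rw [mul_inv_cancel₀ hf, (Scheme.ord_eq_iff hx one_ne_zero).2 (by rw [map_one, ofAdd_zero, WithZero.coe_one])] at h1
      have h2 : 0 ≤ Scheme.ord f⁻¹ x := one_le_ordHom_of_inStalk hx (inv_ne_zero hf) ⟨a, ha⟩
      have h3 : Scheme.ord f⁻¹ x = 0 := by omega
      refine hu ((Ring.isUnit_iff_ordFrac_one_of_isDiscreteValuationRing (K := X.functionField)).2 ?_)
      rw [ha]
      exact ((Scheme.ord_eq_iff hx (inv_ne_zero hf)).1 h3).trans (by rw [ofAdd_zero, WithZero.coe_one])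

end Groth.Agent.CDivLib
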